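import Cfsg.Agent.Eq.Def_Blocks
import Cfsg.Agent.Blocks.LocalRing
import Mathlib.RingTheory.Polynomial.Cyclotomic.Basic
import Mathlib.RingTheory.RootsOfUnity.Complex
import Mathlib.Algebra.CharP.Reduced
import Mathlib.Algebra.Algebra.ZMod
import Mathlib.RingTheory.IntegralClosure.IsIntegral.Basic
import Mathlib.RingTheory.Finiteness.Cardinality

/-!
# Roots of unity modulo a modular maximal ideal
-/

set_option autoImplicit false

namespace CfsgLib.Blocks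

open Cfsg

variable {p : ℕ} {M : Ideal AlgInt}

theorem algInt_eq_one_of_sub_one_mem (hM : IsPModular p M) {ζ : AlgInt} {m : ℕ} (hm : ¬ p ∣ m)
    (hζ : ζ ^ m = 1) (h : ζ - 1 ∈ M) : ζ = 1 := by
  haveI := hM.2.1
  by_contra hne
  have hgeom : (∑ i ∈ Finset.range m, ζ ^ i) * (ζ - 1) = 0 := by
    rw [geom_sum_mul, hζ, sub_self]
  have hsum : (∑ i ∈ Finset.range m, ζ ^ i) = 0 :=
    (mul_eq_zero.1 hgeom).resolve_right (sub_ne_zero.2 hne)
  have hmem : (∑ i ∈ Finset.range m, (ζ ^ i - 1)) ∈ M :=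
    M.sum_mem fun i _ => by
      rw [← geom_sum_mul]
      exact M.mul_mem_left _ h
  rw [Finset.sum_sub_distrib, hsum, zero_sub, Finset.sum_const, Finset.card_range, nsmul_eq_mul,
    mul_one, M.neg_mem_iff, natCast_mem_iff_dvd hM] at hmem
  exact hm hmem

/-- Roots of unity of order prime to `p` are determined by their residues. -/
theorem eq_of_sub_mem_of_roots (hM : IsPModular p M) {ε₁ ε₂ : AlgInt} {m₁ m₂ : ℕ}
    (hm₁ : ¬ p ∣ m₁) (hm₂ : ¬ p ∣ m₂) (h₁ : ε₁ ^ m₁ = 1) (h₂ : ε₂ ^ m₂ = 1)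
    (h : ε₁ - ε₂ ∈ M) : ε₁ = ε₂ := by
  have hm₂0 : 0 < m₂ := Nat.pos_of_ne_zero fun h0 => hm₂ (h0 ▸ dvd_zero p)
  have hinv : ε₂ * ε₂ ^ (m₂ - 1) = 1 := by
    rw [← pow_succ', Nat.sub_add_cancel hm₂0, h₂]
  have hmem : ε₁ * ε₂ ^ (m₂ - 1) - 1 ∈ M := by
    rw [← hinv, ← sub_mul]
    exact M.mul_mem_right _ h
  have hpow : (ε₁ * ε₂ ^ (m₂ - 1)) ^ (m₁ * m₂) = 1 := by
    rw [mul_pow, ← pow_mul ε₂, pow_mul ε₁, h₁, one_pow, one_mul,
      show (m₂ - 1) * (m₁ * m₂) = m₂ * ((m₂ - 1) * m₁) by ring, pow_mul, h₂, one_pow]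
  have h1 := algInt_eq_one_of_sub_one_mem hM (fun hd => (hM.1.dvd_mul.1 hd).elim hm₁ hm₂) hpow hmem
  calc ε₁ = ε₁ * (ε₂ * ε₂ ^ (m₂ - 1)) := by rw [hinv, mul_one]
    _ = (ε₁ * ε₂ ^ (m₂ - 1)) * ε₂ := by ring
    _ = ε₂ := by rw [h1, one_mul]

/-- A unit of the residue field has finite order prime to `p`. -/
theorem exists_pow_sub_one_mem (hM : IsPModular p M) {a : AlgInt} (ha : a ∉ M) :
    ∃ m : ℕ, ¬ p ∣ m ∧ a ^ m - 1 ∈ M := by
  classical
  haveI := hM.2.1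
  haveI : Fact p.Prime := ⟨hM.1⟩
  letI : Field (AlgInt ⧸ M) := Ideal.Quotient.field M
  haveI : CharP (AlgInt ⧸ M) p := by
    refine ⟨fun n => ?_⟩
    rw [← map_natCast (Ideal.Quotient.mk M), Ideal.Quotient.eq_zero_iff_mem,
      natCast_mem_iff_dvd hM]
  letI : Algebra (ZMod p) (AlgInt ⧸ M) := ZMod.algebra _ p
  set x : AlgInt ⧸ M := Ideal.Quotient.mk M a with hx
  have hx0 : x ≠ 0 := fun h0 => ha (Ideal.Quotient.eq_zero_iff_mem.1 h0)
  have hint : IsIntegral (ZMod p) x := by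
    have h1 : IsIntegral ℤ a := integralClosure.isIntegral a
    exact IsIntegral.tower_top (R := ℤ)
      (h1.map (Ideal.Quotient.mk M).toIntAlgHom)
  haveI : Module.Finite (ZMod p) (Algebra.adjoin (ZMod p) ({x} : Set (AlgInt ⧸ M))) :=
    Module.Finite.iff_fg.2 hint.fg_adjoin_singleton
  haveI : Finite (Algebra.adjoin (ZMod p) ({x} : Set (AlgInt ⧸ M))) :=
    (Module.finite_iff_finite (R := ZMod p)).1 inferInstance
  obtain ⟨i, j, hij, hne⟩ : ∃ i j : ℕ, x ^ i = x ^ j ∧ i ≠ j := by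
    obtain ⟨i, j, hne, hij⟩ := Finite.exists_ne_map_eq_of_infinite
      fun n : ℕ => (⟨x, Algebra.subset_adjoin rfl⟩ : Algebra.adjoin (ZMod p) ({x} : Set (AlgInt ⧸ M))) ^ n
    exact ⟨i, j, by simpa using congrArg Subtype.val hij, hne⟩
  have hfin : IsOfFinOrder x := by
    rw [isOfFinOrder_iff_pow_eq_one]
    rcases lt_or_gt_of_ne hne with hlt | hlt
    · refine ⟨j - i, Nat.sub_pos_of_lt hlt, mul_left_cancel₀ (pow_ne_zero i hx0) ?_⟩
      rw [← pow_add, Nat.add_sub_cancel' hlt.le, mul_one, hij]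
    · refine ⟨i - j, Nat.sub_pos_of_lt hlt, mul_left_cancel₀ (pow_ne_zero j hx0) ?_⟩
      rw [← pow_add, Nat.add_sub_cancel' hlt.le, mul_one, hij]
  refine ⟨orderOf x, fun hd => ?_, ?_⟩
  · obtain ⟨k, hk⟩ := hd
    have h1 : frobenius (AlgInt ⧸ M) p (x ^ k) = frobenius (AlgInt ⧸ M) p 1 := by
      rw [frobenius_def, frobenius_def, ← pow_mul, mul_comm, ← hk, pow_orderOf_eq_one, one_pow]
    have h2 := orderOf_dvd_of_pow_eq_one (frobenius_inj (AlgInt ⧸ M) p h1)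
    have hk0 : 0 < k := Nat.pos_of_ne_zero fun h0 => hfin.orderOf_pos.ne' (by rw [hk, h0, mul_zero])
    have := Nat.le_of_dvd hk0 h2
    rw [hk] at this
    have := hM.1.two_le
    nlinarith
  · rw [← Ideal.Quotient.eq_zero_iff_mem, map_sub, map_pow, map_one, ← hx, pow_orderOf_eq_one,
      sub_self]

/-- Every algebraic integer prime to `M` is congruent to a root of unity of order prime to `p`. -/
theorem exists_root_sub_mem (hM : IsPModular p M) {a : AlgInt} (ha : a ∉ M) :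
    ∃ ε : AlgInt, (∃ m : ℕ, ¬ p ∣ m ∧ ε ^ m = 1) ∧ a - ε ∈ M := by
  classical
  haveI := hM.2.1
  obtain ⟨m, hm, hmem⟩ := exists_pow_sub_one_mem hM ha
  have hm0 : 0 < m := Nat.pos_of_ne_zero fun h0 => hm (h0 ▸ dvd_zero p)
  have hprod := congrArg (Polynomial.eval (a : ℂ))
    (Polynomial.X_pow_sub_one_eq_prod hm0 (Complex.isPrimitiveRoot_exp m hm0.ne'))
  rw [Polynomial.eval_sub, Polynomial.eval_pow, Polynomial.eval_X, Polynomial.eval_one,
    Polynomial.eval_prod] at hprod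
  have hint : ∀ μ ∈ Polynomial.nthRootsFinset m (1 : ℂ), μ ∈ AlgInt := fun μ hμ =>
    IsIntegral.of_pow hm0 (by
      rw [(Polynomial.mem_nthRootsFinset hm0 1).1 hμ]; exact isIntegral_one)
  have heq : a ^ m - 1 = ∏ μ ∈ (Polynomial.nthRootsFinset m (1 : ℂ)).attach,
      (a - (⟨μ.1, hint μ.1 μ.2⟩ : AlgInt)) := by
    refine Subtype.ext ?_
    push_cast
    rw [hprod, ← Finset.prod_attach]
    simp
  rw [heq] at hmem
  obtain ⟨μ, -, hμ⟩ := (Ideal.IsPrime.prod_mem_iff (hp := hM.2.1.isPrime)).1 hmem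
  exact ⟨⟨μ.1, hint μ.1 μ.2⟩,
    ⟨m, hm, Subtype.ext (by simpa using (Polynomial.mem_nthRootsFinset hm0 1).1 μ.2)⟩, hμ⟩

end CfsgLib.Blocks
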